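import Groth.Agent.FibreNoether.Nagata
import Groth.Agent.DimFormulaLib.LocalDim

/-! Noether normalization adapted to a prime. -/

set_option autoImplicit false

universe u

namespace Groth.Agent.RefNoether

open MvPolynomial

variable {k : Type u} [Field k] {d : ℕ}

/-- An algebra map to a polynomial ring is integral once the variables are integral. -/
theorem isIntegral_of_X {A : Type u} [CommRing A] [Algebra k A] {τ : Type}
    (φ : A →ₐ[k] MvPolynomial τ k) (h : ∀ i, φ.toRingHom.IsIntegralElem (X i)) :
    φ.toRingHom.IsIntegral := by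
  intro p
  induction p using MvPolynomial.induction_on with
  | C c => exact φ.commutes c ▸ φ.toRingHom.isIntegralElem_map
  | add a b ha hb => exact ha.add φ.toRingHom hb
  | mul_X a i ha => exact ha.mul φ.toRingHom (h i)

/-- One step: `k[x₀, …, x_d]` is integral over `k[z₁, …, z_d, f]`. -/
theorem exists_step (f : MvPolynomial (Fin (d + 1)) k) (hf0 : f ≠ 0) (hfu : ¬ IsUnit f) :
    ∃ Z : Fin d → MvPolynomial (Fin (d + 1)) k,
      (aeval (R := k) (Fin.snoc Z f : Fin (d + 1) → MvPolynomial (Fin (d + 1)) k)).toRingHom.IsIntegral := by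
  obtain ⟨N, hN, hfN⟩ : ∃ N, 1 < N ∧ ∀ v ∈ f.support, ∀ i, v i < N :=
    ⟨2 + f.totalDegree, by omega, fun v hv i =>
      lt_of_le_of_lt ((monomial_le_degreeOf i hv).trans (degreeOf_le_totalDegree f i)) (by omega)⟩
  let Z : Fin d → MvPolynomial (Fin (d + 1)) k := fun i => X i.succ - X 0 ^ (N ^ i.succ.1)
  refine ⟨Z, ?_⟩
  set ψ := aeval (R := k) (Fin.snoc Z f : Fin (d + 1) → MvPolynomial (Fin (d + 1)) k)
  let q := finSuccEquiv k d (FibreNoether.subst N f)
  have hu : IsUnit q.leadingCoeff := FibreNoether.isUnit_leadingCoeff_subst N hN hfN hf0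
  have hev : (q.eval₂ (aeval (R := k) Z).toRingHom (X 0)) = f := by
    let E : MvPolynomial (Fin (d + 1)) k →+* MvPolynomial (Fin (d + 1)) k :=
      (Polynomial.eval₂RingHom (aeval (R := k) Z).toRingHom (X 0)).comp
        ((finSuccEquiv k d).toRingEquiv.toRingHom.comp (FibreNoether.subst N).toRingHom)
    have hE : E = RingHom.id _ := by
      refine MvPolynomial.ringHom_ext (fun c => ?_) (fun i => ?_)
      · simp [E, FibreNoether.subst, finSuccEquiv_apply]
      · cases i using Fin.cases with
        | zero => simp [E, FibreNoether.subst_zero, finSuccEquiv_X_zero]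
        | succ i => simp [E, FibreNoether.subst_succ, finSuccEquiv_X_succ, finSuccEquiv_X_zero, Z]
    exact RingHom.congr_fun hE f
  have hdeg : 0 < q.natDegree := by
    by_contra h
    refine hfu ?_
    rw [← hev, Polynomial.eq_C_of_natDegree_eq_zero (p := q) (by omega), Polynomial.eval₂_C]
    refine IsUnit.map _ ?_
    rwa [Polynomial.leadingCoeff, show q.natDegree = 0 by omega] at hu
  let ρ : MvPolynomial (Fin d) k →+* MvPolynomial (Fin (d + 1)) k := (rename Fin.castSucc).toRingHom
  have hρ : ψ.toRingHom.comp ρ = (aeval (R := k) Z).toRingHom := by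
    refine MvPolynomial.ringHom_ext (fun c => by simp [ψ, ρ]) (fun i => ?_)
    simp [ψ, ρ]
  have h0 : ψ.toRingHom.IsIntegralElem (X 0) := by
    let Q := q.map ρ - Polynomial.C (X (Fin.last d))
    have hQd : (Polynomial.C (X (R := k) (Fin.last d))).degree < (q.map ρ).degree := by
      refine lt_of_le_of_lt Polynomial.degree_C_le ?_
      rw [Polynomial.degree_map_eq_of_leadingCoeff_ne_zero _ (hu.map ρ).ne_zero,
        Polynomial.degree_eq_natDegree (fun h => by simp [h] at hdeg)]
      exact_mod_cast hdeg
    have hQ : IsUnit Q.leadingCoeff := by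
      rw [Polynomial.leadingCoeff_sub_of_degree_lt hQd,
        Polynomial.leadingCoeff_map_of_leadingCoeff_ne_zero _ (hu.map ρ).ne_zero]
      exact hu.map ρ
    refine ⟨_, Polynomial.monic_of_isUnit_leadingCoeff_inv_smul hQ, ?_⟩
    rw [Units.smul_def, Polynomial.eval₂_smul, Polynomial.eval₂_sub, Polynomial.eval₂_map, hρ, hev,
      Polynomial.eval₂_C]
    simp [ψ]
  refine isIntegral_of_X ψ fun i => ?_
  cases i using Fin.cases with
  | zero => exact h0
  | succ i =>
    have h1 : ψ.toRingHom.IsIntegralElem (Z i) := by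
      have : Z i = ψ.toRingHom (X i.castSucc) := by simp [ψ]
      rw [this]; exact ψ.toRingHom.isIntegralElem_map
    have h2 : ψ.toRingHom.IsIntegralElem (X 0 ^ (N ^ i.succ.1)) := by
      letI := ψ.toRingHom.toAlgebra
      exact IsIntegral.pow h0 _
    simpa [Z] using h1.add ψ.toRingHom h2

/-- Refined Noether normalization. -/
theorem exists_normalization : ∀ (n r : ℕ) (q : Ideal (MvPolynomial (Fin n) k)) [q.IsPrime],
    Algebra.trdeg k (MvPolynomial (Fin n) k ⧸ q) = r →
    ∃ φ : MvPolynomial (Fin n) k →ₐ[k] MvPolynomial (Fin n) k, φ.toRingHom.IsIntegral ∧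
      q.comap φ = Ideal.span (Set.range fun i : {i : Fin n // r ≤ (i : ℕ)} => X (i : Fin n)) := by
  intro n
  induction n with
  | zero =>
    intro r q _ _
    refine ⟨AlgHom.id k _, RingHom.isIntegral_of_surjective _ Function.surjective_id, ?_⟩
    haveI : IsEmpty {i : Fin 0 // r ≤ (i : ℕ)} := ⟨fun i => i.1.elim0⟩
    rw [Set.range_eq_empty, Ideal.span_empty]
    refine (Submodule.eq_bot_iff _).2 fun x hx => ?_
    by_contra hx0
    have hxC := eq_C_of_isEmpty x
    refine ‹q.IsPrime›.ne_top (Ideal.eq_top_of_isUnit_mem _ (show x ∈ q from hx) ?_)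
    rw [hxC]
    exact (isUnit_iff_ne_zero.2 fun h => hx0 (by rw [hxC, h, map_zero])).map C
  | succ d ih =>
    intro r q _ hr
    by_cases hq : q = ⊥
    · subst hq
      refine ⟨AlgHom.id k _, RingHom.isIntegral_of_surjective _ Function.surjective_id, ?_⟩
      have : r = d + 1 := by
        rw [(AlgEquiv.quotientBot k (MvPolynomial (Fin (d + 1)) k)).trdeg_eq, trdeg_of_isDomain] at hr
        simp at hr
        exact_mod_cast hr.symm
      haveI : IsEmpty {i : Fin (d + 1) // r ≤ (i : ℕ)} := ⟨fun i => by have := i.1.2; have := i.2; omega⟩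
      rw [Set.range_eq_empty, Ideal.span_empty]
      exact Ideal.comap_id _
    obtain ⟨f, hfq, hf0⟩ := Submodule.exists_mem_ne_zero_of_ne_bot hq
    obtain ⟨Z, hψ⟩ := exists_step f hf0 (fun hu => ‹q.IsPrime›.ne_top (Ideal.eq_top_of_isUnit_mem _ hfq hu))
    set ψ := aeval (R := k) (Fin.snoc Z f : Fin (d + 1) → MvPolynomial (Fin (d + 1)) k)
    let α : MvPolynomial (Fin d) k →ₐ[k] MvPolynomial (Fin (d + 1)) k := aeval Z
    let q' := q.comap α.toRingHom
    haveI : q'.IsPrime := Ideal.IsPrime.comap _
    -- reduce modulo the last variable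
    let red : MvPolynomial (Fin (d + 1)) k →ₐ[k] MvPolynomial (Fin d) k :=
      aeval (Fin.snoc (fun i => X i) 0 : Fin (d + 1) → MvPolynomial (Fin d) k)
    have hred : ∀ g, g - rename Fin.castSucc (red g) ∈ Ideal.span {X (Fin.last d)} := by
      intro g
      rw [← Ideal.Quotient.eq]
      have : (Ideal.Quotient.mkₐ k (Ideal.span {X (R := k) (Fin.last d)})).comp (AlgHom.id k _) =
          (Ideal.Quotient.mkₐ k _).comp ((rename Fin.castSucc).comp red) := by
        refine MvPolynomial.algHom_ext fun i => ?_
        cases i using Fin.lastCases with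
        | last => simp [red]
        | cast i => simp [red]
      exact AlgHom.congr_fun this g
    have hψr : ∀ g, Ideal.Quotient.mk q (ψ g) = Ideal.Quotient.mk q (α (red g)) := by
      intro g
      have : (Ideal.Quotient.mkₐ k q).comp ψ = (Ideal.Quotient.mkₐ k q).comp (α.comp red) := by
        refine MvPolynomial.algHom_ext fun i => ?_
        cases i using Fin.lastCases with
        | last => simpa [ψ, red, α] using Ideal.Quotient.eq_zero_iff_mem.2 hfq
        | cast i => simp [ψ, red, α]
      exact AlgHom.congr_fun this g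
    -- the quotient map
    let β : (MvPolynomial (Fin d) k ⧸ q') →ₐ[k] (MvPolynomial (Fin (d + 1)) k ⧸ q) :=
      Ideal.quotientMapₐ q α le_rfl
    have hβinj : Function.Injective β := Ideal.quotientMap_injective' (f := α.toRingHom) (H := le_rfl) le_rfl
    have hβint : β.toRingHom.IsIntegral := by
      have h1 : ((Ideal.Quotient.mk q).comp ψ.toRingHom).IsIntegral :=
        hψ.trans _ _ (RingHom.isIntegral_of_surjective _ Ideal.Quotient.mk_surjective)
      have h2 : (Ideal.Quotient.mk q).comp ψ.toRingHom =
          β.toRingHom.comp ((Ideal.Quotient.mk q').comp red.toRingHom) := RingHom.ext fun g => hψr g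
      rw [h2] at h1
      exact RingHom.IsIntegral.tower_top _ _ h1
    have hr' : Algebra.trdeg k (MvPolynomial (Fin d) k ⧸ q') = r := by
      letI := β.toRingHom.toAlgebra
      haveI : IsScalarTower k (MvPolynomial (Fin d) k ⧸ q') (MvPolynomial (Fin (d + 1)) k ⧸ q) :=
        IsScalarTower.of_algebraMap_eq fun c => (β.commutes c).symm
      haveI : FaithfulSMul (MvPolynomial (Fin d) k ⧸ q') (MvPolynomial (Fin (d + 1)) k ⧸ q) :=
        (faithfulSMul_iff_algebraMap_injective _ _).2 hβinj
      haveI : Algebra.IsIntegral (MvPolynomial (Fin d) k ⧸ q') (MvPolynomial (Fin (d + 1)) k ⧸ q) := ⟨hβint⟩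
      rw [← trdeg_add_eq k (MvPolynomial (Fin d) k ⧸ q') (A := MvPolynomial (Fin (d + 1)) k ⧸ q),
        trdeg_eq_zero (R := MvPolynomial (Fin d) k ⧸ q'), add_zero] at hr
      exact hr
    have hrd : r ≤ d := by
      have := trdeg_le_of_surjective (Ideal.Quotient.mkₐ k q') (Ideal.Quotient.mkₐ_surjective k q')
      rw [hr', trdeg_of_isDomain] at this
      simpa using this
    obtain ⟨φ', hφ', hφq⟩ := ih r q' hr'
    let Φ : MvPolynomial (Fin (d + 1)) k →ₐ[k] MvPolynomial (Fin (d + 1)) k :=
      aeval (Fin.snoc (fun i => rename Fin.castSucc (φ' (X i))) (X (Fin.last d)) :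
        Fin (d + 1) → MvPolynomial (Fin (d + 1)) k)
    have hΦr : Φ.comp (rename Fin.castSucc) = (rename Fin.castSucc).comp φ' :=
      MvPolynomial.algHom_ext fun i => by simp [Φ]
    have hΦ : Φ.toRingHom.IsIntegral := by
      refine isIntegral_of_X Φ fun i => ?_
      cases i using Fin.lastCases with
      | last =>
        have : X (Fin.last d) = Φ.toRingHom (X (Fin.last d)) := by simp [Φ]
        rw [this]; exact Φ.toRingHom.isIntegralElem_map
      | cast i =>
        obtain ⟨p, hp, hpe⟩ := hφ' (X i)
        refine ⟨p.map (rename Fin.castSucc).toRingHom, hp.map _, ?_⟩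
        rw [Polynomial.eval₂_map,
          show Φ.toRingHom.comp (rename Fin.castSucc).toRingHom = (rename Fin.castSucc).toRingHom.comp φ'.toRingHom
            from congrArg AlgHom.toRingHom hΦr,
          show X i.castSucc = (rename Fin.castSucc).toRingHom (X (R := k) i) by simp,
          ← Polynomial.hom_eval₂, hpe, map_zero]
    refine ⟨ψ.comp Φ, hΦ.trans _ _ hψ, le_antisymm (fun g hg => ?_) ?_⟩
    · have hg' : ψ (Φ g) ∈ q := hg
      have h1 : red (Φ g) = φ' (red g) := by
        have : red.comp Φ = φ'.comp red := by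
          refine MvPolynomial.algHom_ext fun i => ?_
          cases i using Fin.lastCases with
          | last => simp [red, Φ]
          | cast i =>
            have hid : red.comp (rename Fin.castSucc) = AlgHom.id k _ :=
              MvPolynomial.algHom_ext fun j => by simp [red]
            simpa [red, Φ] using AlgHom.congr_fun hid (φ' (X i))
        exact AlgHom.congr_fun this g
      have h2 : red g ∈ q'.comap φ' := by
        rw [Ideal.mem_comap, ← h1]
        show α (red (Φ g)) ∈ q
        rw [← Ideal.Quotient.eq_zero_iff_mem, ← hψr, Ideal.Quotient.eq_zero_iff_mem]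
        exact hg'
      rw [hφq] at h2
      rw [show g = (g - rename Fin.castSucc (red g)) + rename Fin.castSucc (red g) by ring]
      refine add_mem (Ideal.span_mono ?_ (hred g)) ?_
      · rintro _ rfl
        exact ⟨⟨Fin.last d, by simpa using hrd⟩, rfl⟩
      · have h3 := Ideal.mem_map_of_mem (rename (R := k) Fin.castSucc).toRingHom h2
        rw [Ideal.map_span] at h3
        refine Ideal.span_mono ?_ h3
        rintro _ ⟨_, ⟨⟨i, hi⟩, rfl⟩, rfl⟩
        exact ⟨⟨i.castSucc, hi⟩, by simp⟩
    · rw [Ideal.span_le]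
      rintro _ ⟨⟨i, hi⟩, rfl⟩
      show ψ (Φ (X i)) ∈ q
      cases i using Fin.lastCases with
      | last => simpa [Φ, ψ] using hfq
      | cast i =>
        have h1 : X i ∈ q'.comap φ' := hφq.symm ▸ Ideal.subset_span ⟨⟨i, hi⟩, rfl⟩
        have h2 : ψ.comp (rename Fin.castSucc) = α := MvPolynomial.algHom_ext fun j => by simp [ψ, α]
        have h3 : ψ (Φ (X i.castSucc)) = α (φ' (X i)) := by
          rw [show Φ (X i.castSucc) = rename Fin.castSucc (φ' (X i)) by simp [Φ]]
          exact AlgHom.congr_fun h2 _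
        rw [h3]; exact h1

end Groth.Agent.RefNoether
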